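import Cfsg.Agent.Mrg.Omega.NO3S.SN.J.N2
import Cfsg.Agent.Mrg.Omega.FrameI
import Cfsg.Agent.Mrg.Omega.NO3S.ThmB.Main
import Cfsg.Agent.Mrg.Omega.OM.Lev.SFr
import Cfsg.Agent.Mrg.Omega.OM.Lev.Nat

-- merged: Cfsg.Agent.Mrg.Omega.NO3S.SNL.Lev
section

/-!
# SN.Two / SymBigL: LEMMA Q and LEMMA N at a level (helper291 #20271 (B1), (B2); helper140)

* `count` : a best offender on `X` offends on every subgroup of `X`;
* `ExL P X ε i j A` : an exact best offender on `X`: `A` acts on `V` as `⟨(i j)⟩`; `ExL.conj`;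
* `LHyp S P m ε X` : `V ≤ X ≤ O₂(P)`, `X` elementary abelian, normalised by `P`, exact best offenders for all pairs,
  `Q ≤ N_G(V^g)` implies `V^g ≤ X`, `Ω₁(Z(Q)) = V`;
* `LHyp.mem` : LEMMA Q; `LHyp.lemN` : LEMMA N; `LHyp.ctl` : fusion in `V`; **`LHyp.fr`** : the frame.
-/

set_option autoImplicit false
set_option linter.unusedSectionVars false

namespace Cfsg.Agent.Omega.NO3S.SNL

open Subgroup Cfsg Cfsg.Agent.PLocal.ThompsonJ Cfsg.Agent.ZN Cfsg.Agent.ZN.ChoiceBase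
open Cfsg.Agent.PLocal.ElemAbSup
open Cfsg.Agent.Omega.MinPar Cfsg.Agent.Omega.Frame Cfsg.Agent.Omega.FrameNOFF
open Cfsg.Agent.Omega.S5.Def Cfsg.Agent.Omega.S5.Syl Cfsg.Agent.Omega.S5.Pair
open Cfsg.Agent.Omega.NSix.Base Cfsg.Agent.Omega.NSix.Basic
open Cfsg.Agent.Omega.NO3S.SN (pt Cn Qn U mem_Cn mem_Cn' Base)
open Cfsg.Agent.ZN.ChoiceSit (Syl exists_syl syl_conj)
open Cfsg.Agent.Omega.SQ1.Bau (elem_comm elem_sq mem_sup_comm card_sup_comm)
open Cfsg.Agent.Omega.NSix.CaseJ.Exact (card_le_two two_mul_card_le mem_zp card_sup_zp zp_elem sup_elem)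
open Cfsg.Agent.Omega.NSix.CaseJ.Base (rr_eq)
open Cfsg.Agent.Omega.NSix.CaseJ.LemQ (comm_four comm_of_conj exists_ne)
open Cfsg.Agent.Omega.NO1.BestOff (Best)
open scoped Pointwise

universe u

/-! ### Best offenders -/

/-- **A best offender on `X` offends on every subgroup of `X`.** -/
theorem count {G : Type*} [Group G] [Finite G] {X X' A : Subgroup G} (hX : IsElementaryAbelian 2 X)
    (hb : Best X A) (hX' : X' ≤ X) :
    Nat.card X' * Nat.card ↥(A ⊓ centralizer (X' : Set G)) ≤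
      Nat.card A * Nat.card ↥(X' ⊓ centralizer (A : Set G)) := by
  set Y := A ⊓ centralizer (X' : Set G) with hY
  have h1 := hb.max Y inf_le_left (inf_le_inf_left _ (centralizer_le hX'))
  have hle : X' ⊔ (X ⊓ centralizer (A : Set G)) ≤ X ⊓ centralizer (Y : Set G) := by
    refine sup_le (le_inf hX' fun x hx => mem_centralizer_iff.2 fun y hy => ?_) ?_
    · exact (mem_centralizer_iff.1 hy.2 x hx).symm
    · exact inf_le_inf_left _ (centralizer_le inf_le_left)
  have h2 := card_sup_comm (A := X') (B := X ⊓ centralizer (A : Set G)) fun a ha b hb =>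
    elem_comm hX a (hX' ha) b hb.1
  have h3 : X' ⊓ (X ⊓ centralizer (A : Set G)) = X' ⊓ centralizer (A : Set G) := by
    rw [← inf_assoc, inf_eq_left.2 hX']
  rw [h3] at h2
  have h4 := Subgroup.card_le_of_le hle
  have hp : 0 < Nat.card ↥(X ⊓ centralizer (A : Set G)) := Nat.card_pos
  refine Nat.le_of_mul_le_mul_right ?_ hp
  calc Nat.card X' * Nat.card Y * Nat.card ↥(X ⊓ centralizer (A : Set G))
      = Nat.card Y * (Nat.card X' * Nat.card ↥(X ⊓ centralizer (A : Set G))) := by ring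
    _ = Nat.card Y * (Nat.card ↥(X' ⊔ (X ⊓ centralizer (A : Set G))) *
          Nat.card ↥(X' ⊓ centralizer (A : Set G))) := by rw [h2]
    _ ≤ Nat.card Y * (Nat.card ↥(X ⊓ centralizer (Y : Set G)) *
          Nat.card ↥(X' ⊓ centralizer (A : Set G))) := Nat.mul_le_mul_left _ (Nat.mul_le_mul_right _ h4)
    _ = (Nat.card Y * Nat.card ↥(X ⊓ centralizer (Y : Set G))) *
          Nat.card ↥(X' ⊓ centralizer (A : Set G)) := by ring
    _ ≤ (Nat.card A * Nat.card ↥(X ⊓ centralizer (A : Set G))) *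
          Nat.card ↥(X' ⊓ centralizer (A : Set G)) := Nat.mul_le_mul_right _ h1
    _ = _ := by ring

variable {G : Type u} [Group G] [Finite G] {S : Sylow 2 G} {P : Subgroup G} {m : ℕ}
  {ε : (Fin (2 ^ m + 1) → ZMod 2) → G}

/-- An exact best offender on `X` for the transposition `(i j)`. -/
structure ExL (P X : Subgroup G) (ε : (Fin (2 ^ m + 1) → ZMod 2) → G) (i j : Fin (2 ^ m + 1))
    (A : Subgroup G) : Prop where
  AP : A ≤ P
  best : Best X A
  act : ∀ a ∈ A, Acts ε a 1 ∨ Acts ε a (Equiv.swap i j)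
  ex : ∃ a ∈ A, Acts ε a (Equiv.swap i j)
  cV : ∀ a ∈ A, Acts ε a 1 → a ∈ o2 P

theorem ExL.conj {X : Subgroup G} {i j : Fin (2 ^ m + 1)} {A : Subgroup G} (hA : ExL P X ε i j A) {g : G} (hg : g ∈ P)
    (hgX : g ∈ normalizer (X : Set G)) {σ : Equiv.Perm (Fin (2 ^ m + 1))} (hσ : Acts ε g σ) :
    ExL P X ε (σ i) (σ j) (cj g A) where
  AP := by
    rintro _ ⟨a, ha, rfl⟩
    exact P.mul_mem (P.mul_mem hg (hA.AP ha)) (P.inv_mem hg)
  best := hA.best.conj hgX
  act := by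
    rintro _ ⟨a, ha, rfl⟩
    rcases hA.act a ha with h1 | h1
    · left
      have := hσ.conj h1
      rwa [mul_one, mul_inv_cancel] at this
    · right
      have := hσ.conj h1
      rwa [← Equiv.swap_apply_apply] at this
  ex := by
    obtain ⟨a, ha, h1⟩ := hA.ex
    refine ⟨_, ⟨a, ha, rfl⟩, ?_⟩
    have := hσ.conj h1
    rwa [← Equiv.swap_apply_apply] at this
  cV := by
    rintro _ ⟨a, ha, rfl⟩ h1
    have h2 := hσ.inv.conj h1
    have e : g⁻¹ * (g * a * g⁻¹) * g⁻¹⁻¹ = a := by group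
    change Acts ε (g⁻¹ * (g * a * g⁻¹) * g⁻¹⁻¹) _ at h2
    rw [e, mul_one, mul_inv_cancel] at h2
    exact (mem_normalizer_iff.1 (ChoiceSit.le_normalizer_o2 P hg) a).1 (hA.cV a ha h2)

/-- The hypotheses at a level. -/
structure LHyp (S : Sylow 2 G) (P : Subgroup G) (m : ℕ) (ε : (Fin (2 ^ m + 1) → ZMod 2) → G) (X : Subgroup G) : Prop
    extends SN.Hyp S P m ε where
  elX : IsElementaryAbelian 2 X
  VX : zl (S : Subgroup G) P ≤ X
  XQ : X ≤ o2 P
  XP : P ≤ normalizer (X : Set G)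
  oz : ∀ u ∈ o2 P, u * u = 1 → (∀ q ∈ o2 P, q * u = u * q) → u ∈ zl (S : Subgroup G) P
  exA : ∀ i j, i ≠ j → ∃ A, ExL P X ε i j A
  wc : ∀ g : G, o2 P ≤ normalizer ((cj g (zl (S : Subgroup G) P) : Subgroup G) : Set G) →
    cj g (zl (S : Subgroup G) P) ≤ X

section core

variable {X : Subgroup G} (h : LHyp S P m ε X) {i j : Fin (2 ^ m + 1)} {A : Subgroup G}

include h in
theorem LHyp.three : 3 ≤ 2 ^ m + 1 := by have := h.toHyp.nine_le; omega

include h in
theorem LHyp.VcQ {x v : G} (hx : x ∈ o2 P) (hv : v ∈ zl (S : Subgroup G) P) : x * v = v * x := by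
  rw [← IsParS.inf_centralizer S h.ctx.char2 h.star] at hx
  exact (mem_centralizer_iff.1 hx.2 v hv).symm

include h in
theorem LHyp.Qn {g x : G} (hg : g ∈ P) (hx : x ∈ o2 P) : g * x * g⁻¹ ∈ o2 P :=
  (mem_normalizer_iff.1 (ChoiceSit.le_normalizer_o2 P hg) x).1 hx

include h in
theorem LHyp.Xn {g x : G} (hg : g ∈ P) (hx : x ∈ X) : g * x * g⁻¹ ∈ X :=
  (mem_normalizer_iff.1 (h.XP hg) x).1 hx

include h in
theorem LHyp.Vn {g x : G} (hg : g ∈ P) (hx : x ∈ zl (S : Subgroup G) P) : g * x * g⁻¹ ∈ zl (S : Subgroup G) P :=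
  (mem_normalizer_iff.1 (MinSimple.VModule.le_normalizer_zl (S : Subgroup G) P hg) x).1 hx

include h in
theorem LHyp.card_A0 (hA : ExL P X ε i j A) (hij : i ≠ j) :
    Nat.card A = 2 * Nat.card ↥(A ⊓ centralizer (zl (S : Subgroup G) P : Set G)) := by
  obtain ⟨a, ha, ha'⟩ := hA.ex
  refine le_antisymm (card_le_two (c := a) fun y hy hyC => ?_) (two_mul_card_le inf_le_left fun hle => ?_)
  · rcases hA.act y hy with h1 | h1
    · exact absurd ⟨hy, h.ev.acts_one_iff.1 h1⟩ hyC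
    · exact ⟨A.mul_mem (A.inv_mem ha) hy, h.ev.mem_centralizer_of_acts h1 ha'⟩
  · have h1 := h.ev.acts_one_iff.2 (hle ha).2
    have h2 := h.ev.acts_unique h.three h1 ha'
    have h3 := Equiv.swap_apply_left i j
    rw [← h2] at h3
    exact hij h3

include h in
/-- **The step of LEMMA Q**: `u^a ∈ V u`. -/
theorem LHyp.core (hA : ExL P X ε i j A) (hij : i ≠ j) {u v a u' : G}
    (hu : u ∈ X) (hv : v ∈ zl (S : Subgroup G) P)
    (huR : ∀ r ∈ o2 P, r * u * r⁻¹ = u ∨ r * u * r⁻¹ = v * u)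
    (ha : a ∈ A) (ha' : Acts ε a (Equiv.swap i j)) (hva : a * v * a⁻¹ ≠ v)
    (hu' : u' = a * u * a⁻¹) : ∃ w ∈ zl (S : Subgroup G) P, u' = w * u := by
  classical
  obtain ⟨V, hV⟩ : ∃ V, V = zl (S : Subgroup G) P := ⟨_, rfl⟩
  rw [← hV] at hv ⊢
  set A0 := A ⊓ centralizer (V : Set G) with hA0
  have hAR : A0 ≤ o2 P := fun b hb => hA.cV b hb.1 (h.ev.acts_one_iff.2 (hV ▸ hb.2))
  have haP := hA.AP ha
  have hVX : V ≤ X := hV ▸ h.VX
  have hXc : ∀ {x y : G}, x ∈ X → y ∈ X → x * y = y * x := fun hx hy => elem_comm h.elX _ hx _ hy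
  have hXs : ∀ {x : G}, x ∈ X → x * x = 1 := fun hx => by
    have := elem_sq h.elX _ hx
    rwa [pow_two] at this
  have hVn : ∀ {g x : G}, g ∈ P → x ∈ V → g * x * g⁻¹ ∈ V := fun hg hx => by
    rw [hV] at hx ⊢
    exact h.Vn hg hx
  have hu'X : u' ∈ X := hu' ▸ h.Xn haP hu
  have hu2 : u * u = 1 := hXs hu
  have hu'2 : u' * u' = 1 := hXs hu'X
  -- `a²` centralises `X`
  have hau' : a * u' * a⁻¹ = u := by
    have h1 := mem_centralizer_iff.1 (hA.best.sq a ha) u hu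
    calc a * u' * a⁻¹ = (a ^ 2) * u * (a ^ 2)⁻¹ := by rw [hu', pow_two]; group
      _ = u := by rw [← h1, mul_inv_cancel_right]
  have hVe : IsElementaryAbelian 2 V := isElementaryAbelian_mono h.elX hVX
  set X1 := V ⊔ zpowers u with hX1
  have hVu : ∀ x ∈ V, ∀ y ∈ zpowers u, x * y = y * x := by
    intro x hx y hy
    rcases mem_zp hu2 hy with rfl | rfl
    · rw [mul_one, one_mul]
    · exact hXc (hVX hx) hu
  have hX1X : X1 ≤ X := sup_le hVX (zpowers_le.2 hu)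
  have hX1c : ∀ x ∈ X1, x * u' = u' * x := fun x hx => hXc (hX1X hx) hu'X
  set X' := X1 ⊔ zpowers u' with hX'
  have hX'X : X' ≤ X := sup_le hX1X (zpowers_le.2 hu'X)
  have hX1u : ∀ x ∈ X1, ∀ y ∈ zpowers u', x * y = y * x := by
    intro x hx y hy
    rcases mem_zp hu'2 hy with rfl | rfl
    · rw [mul_one, one_mul]
    · exact hX1c x hx
  have hXe : IsElementaryAbelian 2 X' := isElementaryAbelian_mono h.elX hX'X
  have hVX' : V ≤ X' := le_sup_left.trans le_sup_left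
  have huX : u ∈ X' := mem_sup_left (mem_sup_right (mem_zpowers u))
  have hu'X' : u' ∈ X' := mem_sup_right (mem_zpowers u')
  have hmemX : ∀ x ∈ X', ∃ y ∈ V, x = y ∨ x = y * u ∨ x = y * u' ∨ x = y * u * u' := by
    intro x hx
    obtain ⟨y, hy, z, hz, rfl⟩ := mem_sup_comm hX1u hx
    obtain ⟨w, hw, t, ht, rfl⟩ := mem_sup_comm hVu hy
    refine ⟨w, hw, ?_⟩
    rcases mem_zp hu2 ht with rfl | rfl <;> rcases mem_zp hu'2 hz with rfl | rfl
    · left; rw [mul_one, mul_one]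
    · right; right; left; rw [mul_one]
    · right; left; rw [mul_one]
    · right; right; right; rfl
  have hVc : ∀ b ∈ A0, ∀ y ∈ V, b * y = y * b := fun b hb y hy =>
    (mem_centralizer_iff.1 hb.2 y hy).symm
  have hbu' : ∀ b ∈ A0, b * u' * b⁻¹ = a * (b * u * b⁻¹) * a⁻¹ := by
    intro b hb
    have hbP := hA.AP hb.1
    have h1 := mem_centralizer_iff.1 (hA.best.comm b hb.1 a ha) (a * (b * u * b⁻¹) * a⁻¹)
      (h.Xn haP (h.Xn hbP hu))
    calc b * u' * b⁻¹ = (b * a * b⁻¹ * a⁻¹) * (a * (b * u * b⁻¹) * a⁻¹) * (b * a * b⁻¹ * a⁻¹)⁻¹ := by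
          rw [hu']; group
      _ = a * (b * u * b⁻¹) * a⁻¹ := by rw [← h1, mul_inv_cancel_right]
  -- an element of `A0` centralising `u` centralises `X'`
  have hcX : ∀ b ∈ A0, b * u * b⁻¹ = u → ∀ x ∈ X', b * x = x * b := by
    intro b hb hbu x hx
    obtain ⟨y, hy, hxy⟩ := hmemX x hx
    refine comm_four (hVc b hb y hy) (comm_of_conj hbu) (comm_of_conj ?_) hxy
    rw [hbu' b hb, hbu, hu']
  have hcnt := count h.elX hA.best hX'X
  have hcA := h.card_A0 hA hij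
  rw [← hV, ← hA0] at hcA
  have hijc : ¬ V ≤ X' ⊓ centralizer (A : Set G) := fun hle => by
    have h1 := mem_centralizer_iff.1 (hle (hV ▸ zz_mem h.ev i)).2 a ha
    have h2 := (h.ev.fixes_iff h.three ha' i).1 h1
    rw [Equiv.swap_apply_left] at h2
    exact hij h2.symm
  by_cases hcase : ∀ b ∈ A0, b * u * b⁻¹ = u
  · -- `A0` centralises `X'`
    have h2 : A ⊓ centralizer (X' : Set G) = A0 := by
      apply le_antisymm
      · exact fun b hb => ⟨hb.1, mem_centralizer_iff.2 fun v hv => mem_centralizer_iff.1 hb.2 v (hVX' hv)⟩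
      · exact fun b hb => ⟨hb.1, mem_centralizer_iff.2 fun x hx => (hcX b hb (hcase b hb) x hx).symm⟩
    rw [h2, hcA] at hcnt
    set C := X' ⊓ centralizer (A : Set G) with hC
    have hA0p : 0 < Nat.card A0 := Nat.card_pos
    have h3 : Nat.card X' ≤ 2 * Nat.card C := by
      have h4 : Nat.card A0 * Nat.card X' ≤ Nat.card A0 * (2 * Nat.card C) := by
        calc Nat.card A0 * Nat.card X' = Nat.card X' * Nat.card A0 := mul_comm _ _
          _ ≤ 2 * Nat.card A0 * Nat.card C := hcnt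
          _ = Nat.card A0 * (2 * Nat.card C) := by ring
      exact Nat.le_of_mul_le_mul_left h4 hA0p
    have hcm : ∀ v ∈ V, ∀ c ∈ C, v * c = c * v := fun v hv c hc' => hXc (hVX hv) (hX'X hc'.1)
    have h6 : ¬ V ⊔ C ≤ C := fun hle => hijc (le_sup_left.trans hle)
    have h7 := two_mul_card_le (le_sup_right : C ≤ V ⊔ C) h6
    have h8 : V ⊔ C = X' := Subgroup.eq_of_le_of_card_ge (sup_le hVX' inf_le_left) (h3.trans h7)
    have hux := huX
    rw [← h8] at hux
    obtain ⟨y, hy, c, hc', e⟩ := mem_sup_comm hcm hux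
    have e1 : a * c * a⁻¹ = c := by
      rw [mem_centralizer_iff.1 hc'.2 a ha, mul_inv_cancel_right]
    have e2 : u' = (a * y * a⁻¹) * c := by
      rw [hu', e]
      calc a * (y * c) * a⁻¹ = (a * y * a⁻¹) * (a * c * a⁻¹) := by group
        _ = (a * y * a⁻¹) * c := by rw [e1]
    refine ⟨(a * y * a⁻¹) * y⁻¹, mul_mem (hVn haP hy) (inv_mem hy), ?_⟩
    rw [e2, e]; group
  · -- `A0` moves `u`
    push Not at hcase
    obtain ⟨b₀, hb₀, hb₀u⟩ := hcase
    have hb₀u' := (huR b₀ (hAR hb₀)).resolve_left hb₀u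
    by_contra hcon
    push Not at hcon
    have hv1 : v ≠ 1 := fun e => hb₀u (by rw [hb₀u', e, one_mul])
    obtain ⟨v', hv'⟩ : ∃ v', v' = a * v * a⁻¹ := ⟨_, rfl⟩
    rw [← hv'] at hva
    have hv'V : v' ∈ V := hv' ▸ hVn haP hv
    have hv'1 : v' ≠ 1 := by
      intro e
      apply hv1
      calc v = a⁻¹ * v' * a := by rw [hv']; group
        _ = 1 := by rw [e]; group
    have hb₀u'' : b₀ * u' * b₀⁻¹ = v' * u' := by
      rw [hbu' b₀ hb₀, hb₀u', hv', hu']
      group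
    have hb₀y : ∀ y ∈ V, b₀ * y * b₀⁻¹ = y := fun y hy => by
      rw [hVc b₀ hb₀ y hy, mul_inv_cancel_right]
    -- `C_X'(b₀) = V`
    have hCX : ∀ x ∈ X', b₀ * x * b₀⁻¹ = x → x ∈ V := by
      intro x hx hfix
      obtain ⟨y, hy, rfl | rfl | rfl | rfl⟩ := hmemX x hx
      · exact hy
      · exfalso
        have e : b₀ * (y * u) * b₀⁻¹ = (b₀ * y * b₀⁻¹) * (b₀ * u * b₀⁻¹) := by group
        rw [e, hb₀y y hy, hb₀u'] at hfix
        exact hv1 (mul_eq_right.1 (mul_left_cancel hfix))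
      · exfalso
        have e : b₀ * (y * u') * b₀⁻¹ = (b₀ * y * b₀⁻¹) * (b₀ * u' * b₀⁻¹) := by group
        rw [e, hb₀y y hy, hb₀u''] at hfix
        exact hv'1 (mul_eq_right.1 (mul_left_cancel hfix))
      · exfalso
        have e : b₀ * (y * u * u') * b₀⁻¹ = (b₀ * y * b₀⁻¹) * ((b₀ * u * b₀⁻¹) * (b₀ * u' * b₀⁻¹)) := by
          group
        rw [e, hb₀y y hy, hb₀u', hb₀u'', mul_assoc y u u'] at hfix
        have h1 := mul_left_cancel hfix
        have h2 : u * v' = v' * u := hXc hu (hVX hv'V)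
        have h3 : v * v' * (u * u') = u * u' := by
          calc v * v' * (u * u') = v * (v' * u) * u' := by group
            _ = v * (u * v') * u' := by rw [h2]
            _ = v * u * (v' * u') := by group
            _ = u * u' := h1
        have h4 : v * v' = 1 := mul_eq_right.1 h3
        apply hva
        calc v' = v⁻¹ * (v * v') := by group
          _ = v⁻¹ := by rw [h4, mul_one]
          _ = v := inv_eq_of_mul_eq_one_left (h.ev.sq_mem (hV ▸ hv))
    have huV : u ∉ V := fun hh => hb₀u (hb₀y u hh)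
    have hu'V : u' ∉ V := fun hh => huV (by
      have := hVn haP hh
      rwa [hau'] at this)
    have hcard1 : Nat.card X1 = 2 * Nat.card V := card_sup_zp hu2 huV fun y hy => hXc (hVX hy) hu
    have hu'X1 : u' ∉ X1 := by
      intro hh
      obtain ⟨y, hy, z, hz, e⟩ := mem_sup_comm hVu hh
      rcases mem_zp hu2 hz with h1 | h1
      · rw [h1, mul_one] at e
        exact hu'V (e ▸ hy)
      · rw [h1] at e
        exact hcon y hy e
    have hcard2 : Nat.card X' = 2 * Nat.card X1 := card_sup_zp hu'2 hu'X1 hX1c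
    -- `C_X'(A) < V`
    have hCA : X' ⊓ centralizer (A : Set G) ≤ V := fun x hx => hCX x hx.1 (by
      rw [mem_centralizer_iff.1 hx.2 b₀ hb₀.1, mul_inv_cancel_right])
    have hcard3 := two_mul_card_le hCA hijc
    -- `|A| ≤ 4 |C_A(X')|`
    have hcard4 : Nat.card A0 ≤ 2 * Nat.card ↥(A ⊓ centralizer (X' : Set G)) := by
      refine card_le_two (c := b₀) fun y hy hyC => ?_
      have hyu : y * u * y⁻¹ ≠ u := fun e => hyC
        ⟨hy.1, mem_centralizer_iff.2 fun x hx => (hcX y hy e x hx).symm⟩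
      have hyu' := (huR y (hAR hy)).resolve_left hyu
      have hb : b₀⁻¹ * y ∈ A0 := mul_mem (inv_mem hb₀) hy
      have e3 : b₀⁻¹ * y * u * (b₀⁻¹ * y)⁻¹ = u := by
        calc b₀⁻¹ * y * u * (b₀⁻¹ * y)⁻¹ = b₀⁻¹ * (y * u * y⁻¹) * b₀ := by group
          _ = b₀⁻¹ * (b₀ * u * b₀⁻¹) * b₀ := by rw [hyu', hb₀u']
          _ = u := by group
      exact ⟨hb.1, mem_centralizer_iff.2 fun x hx => (hcX _ hb e3 x hx).symm⟩
    have hp : 0 < Nat.card V := Nat.card_pos
    have hp2 : 0 < Nat.card ↥(A ⊓ centralizer (X' : Set G)) := Nat.card_pos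
    have h3 : Nat.card A ≤ 4 * Nat.card ↥(A ⊓ centralizer (X' : Set G)) := by omega
    have h4 : 2 * (Nat.card X' * Nat.card ↥(A ⊓ centralizer (X' : Set G))) ≤ Nat.card A * Nat.card V := by
      calc 2 * (Nat.card X' * Nat.card ↥(A ⊓ centralizer (X' : Set G)))
          ≤ 2 * (Nat.card A * Nat.card ↥(X' ⊓ centralizer (A : Set G))) := Nat.mul_le_mul_left _ hcnt
        _ = Nat.card A * (2 * Nat.card ↥(X' ⊓ centralizer (A : Set G))) := by ring
        _ ≤ Nat.card A * Nat.card V := Nat.mul_le_mul_left _ hcard3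
    have h5 : Nat.card X' = 4 * Nat.card V := by rw [hcard2, hcard1]; ring
    rw [h5] at h4
    have h6 : Nat.card A * Nat.card V ≤ 4 * Nat.card ↥(A ⊓ centralizer (X' : Set G)) * Nat.card V :=
      Nat.mul_le_mul_right _ h3
    nlinarith [Nat.mul_pos hp hp2]

end core

namespace LHyp

variable {X : Subgroup G} (h : LHyp S P m ε X)
include h

/-- **LEMMA Q at a level.** -/
theorem mem {u v : G} (hu : u ∈ X) (hv : v ∈ zl (S : Subgroup G) P) (hv1 : v ≠ 1)
    (hc : ∀ q ∈ o2 P, q * u * q⁻¹ = u ∨ q * u * q⁻¹ = v * u) : u ∈ zl (S : Subgroup G) P := by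
  obtain ⟨x, hx⟩ := h.ev.surj v hv
  obtain ⟨j, hj⟩ := exists_ne h.ev (x := x) (by rw [hx]; exact hv1)
  have h0j : (0 : Fin (2 ^ m + 1)) ≠ j := fun e => hj (by rw [← e])
  obtain ⟨A, hA⟩ := h.exA 0 j h0j
  obtain ⟨a, ha, ha'⟩ := hA.ex
  have haP := hA.AP ha
  have hva : a * v * a⁻¹ ≠ v := by
    intro e
    rw [← hx] at e
    exact hj ((swap_comm_iff h.ev h.three h0j ha' x).1 (comm_of_conj e))
  obtain ⟨u', hu'⟩ : ∃ u', u' = a * u * a⁻¹ := ⟨_, rfl⟩
  obtain ⟨v', hv'⟩ : ∃ v', v' = a * v * a⁻¹ := ⟨_, rfl⟩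
  have hv'V : v' ∈ zl (S : Subgroup G) P := hv' ▸ h.Vn haP hv
  obtain ⟨w, hw, hw'⟩ := h.core hA h0j hu hv hc ha ha' hva hu'
  have hu2 : u * u = 1 := by
    have := elem_sq h.elX _ hu
    rwa [pow_two] at this
  refine h.oz u (h.XQ hu) hu2 fun q hq => ?_
  rcases hc q hq with h1 | h1
  · exact comm_of_conj h1
  · exfalso
    obtain ⟨q', hq'⟩ : ∃ q', q' = a * q * a⁻¹ := ⟨_, rfl⟩
    have hq'Q : q' ∈ o2 P := hq' ▸ h.Qn haP hq
    have e1 : q' * u' * q'⁻¹ = v' * u' := by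
      calc q' * u' * q'⁻¹ = a * (q * u * q⁻¹) * a⁻¹ := by rw [hq', hu']; group
        _ = v' * u' := by rw [h1, hu', hv']; group
    rw [hw'] at e1
    have e2 : q' * (w * u) * q'⁻¹ = w * (q' * u * q'⁻¹) := by
      calc q' * (w * u) * q'⁻¹ = (q' * w) * u * q'⁻¹ := by group
        _ = w * (q' * u * q'⁻¹) := by rw [h.VcQ hq'Q hw]; group
    rw [e2, ← mul_assoc v', h.ev.comm_mem hv'V hw, mul_assoc w v'] at e1
    have e3 := mul_left_cancel e1
    rcases hc q' hq'Q with h2 | h2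
    · rw [h2, right_eq_mul] at e3
      apply hv1
      calc v = a⁻¹ * v' * a := by rw [hv']; group
        _ = 1 := by rw [e3]; group
    · rw [h2] at e3
      rw [← hv'] at hva
      exact hva (mul_right_cancel e3).symm

/-- **LEMMA N at a level.** -/
theorem lemN {g : G} (h2 : o2 P ≤ normalizer ((cj g (zl (S : Subgroup G) P) : Subgroup G) : Set G)) :
    g ∈ normalizer (zl (S : Subgroup G) P : Set G) := by
  obtain ⟨V, hV⟩ : ∃ V, V = zl (S : Subgroup G) P := ⟨_, rfl⟩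
  have hX := h.wc g h2
  have hM := NSix.Norm.evenSet' (le_trans (by norm_num) h.m3) S h.ev h.star.isLoc.le h.fix0
  have hn : ∀ q ∈ o2 P, g⁻¹ * q * g ∈ normalizer (zl (S : Subgroup G) P : Set G) := by
    intro q hq
    refine mem_normalizer_of_cj_le ?_
    rintro _ ⟨v, hv, rfl⟩
    change g⁻¹ * q * g * v * (g⁻¹ * q * g)⁻¹ ∈ _
    have h3 : g * v * g⁻¹ ∈ cj g (zl (S : Subgroup G) P) := ⟨v, hv, rfl⟩
    have h4 := (mem_normalizer_iff.1 (h2 hq) _).1 h3
    rw [mem_cj] at h4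
    have e : g⁻¹ * (q * (g * v * g⁻¹) * q⁻¹) * g = g⁻¹ * q * g * v * (g⁻¹ * q * g)⁻¹ := by group
    rwa [e] at h4
  let c : o2 P →* normalizer (zl (S : Subgroup G) P : Set G) :=
    { toFun := fun q => ⟨g⁻¹ * q * g, hn q q.2⟩
      map_one' := Subtype.ext (by change g⁻¹ * 1 * g = 1; group)
      map_mul' := fun a b => Subtype.ext (by
        change g⁻¹ * (a * b) * g = g⁻¹ * a * g * (g⁻¹ * b * g); group) }
  let f : o2 P →* Equiv.Perm (Fin (2 ^ m + 1)) := (hM.hom h.three).comp c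
  have hact : ∀ (q : o2 P) x, (q : G) * (g * ε x * g⁻¹) * (q : G)⁻¹ = g * ε (x ∘ (f q).symm) * g⁻¹ := by
    intro q x
    have h3 := hM.acts_hom h.three (c q) x
    change g⁻¹ * q * g * ε x * (g⁻¹ * q * g)⁻¹ = ε (x ∘ (f q).symm) at h3
    rw [← h3]; group
  have hmemX : ∀ x, g * ε x * g⁻¹ ∈ X := fun x => hX ⟨ε x, h.ev.mem x, rfl⟩
  have hsq : ∀ x, (g * ε x * g⁻¹) * (g * ε x * g⁻¹) = 1 := fun x => by
    calc (g * ε x * g⁻¹) * (g * ε x * g⁻¹) = g * (ε x * ε x) * g⁻¹ := by group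
      _ = 1 := by rw [h.ev.sq]; group
  -- vectors fixed by `Q` are in `V`
  have hfixed : ∀ x, (∀ q : o2 P, x ∘ (f q).symm = x) → g * ε x * g⁻¹ ∈ zl (S : Subgroup G) P := by
    intro x hx
    refine h.oz _ (h.XQ (hmemX x)) (hsq x) fun q hq => ?_
    have h3 := hact ⟨q, hq⟩ x
    rw [hx] at h3
    exact mul_inv_eq_iff_eq_mul.1 h3
  by_cases hf : ∃ q, f q ≠ 1
  · exfalso
    obtain ⟨u, w, hw0, hw1, hw, hu, q, hq⟩ := SN.J.N2.half (Cfsg.Agent.MinSimple.VModule.o2_isPGroup P) (by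
      exact Even.add_one (Nat.even_pow.mpr ⟨even_two, by have := h.m3; omega⟩)) f hf
    have hwV := hfixed w hw
    have hwne : g * ε w * g⁻¹ ≠ 1 := by
      intro h0
      have h3 : ε w = 1 := conj_eq_one_iff.1 h0
      rcases (h.ev.ker w).1 h3 with h4 | h4
      · exact hw0 h4
      · exact hw1 h4
    have hadd : ∀ x y, g * ε (x + y) * g⁻¹ = (g * ε x * g⁻¹) * (g * ε y * g⁻¹) := fun x y => by
      rw [h.ev.add]; group
    have huV : g * ε u * g⁻¹ ∈ zl (S : Subgroup G) P := by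
      refine h.mem (hmemX u) hwV hwne fun q hq => ?_
      rcases hu ⟨q, hq⟩ with h3 | h3
      · left
        have h4 := hact ⟨q, hq⟩ u
        rwa [h3] at h4
      · right
        have h4 := hact ⟨q, hq⟩ u
        rw [h3, hadd] at h4
        exact h4
    have h4 := hact q u
    rw [hq, hadd] at h4
    have h5 : (q : G) * (g * ε u * g⁻¹) * (q : G)⁻¹ = g * ε u * g⁻¹ := by
      rw [h.VcQ q.2 huV]; group
    rw [h5] at h4
    exact hwne (mul_eq_right.1 h4.symm)
  · push Not at hf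
    refine mem_normalizer_of_cj_le ?_
    rintro _ ⟨v, hv, rfl⟩
    obtain ⟨x, rfl⟩ := h.ev.surj v hv
    exact hfixed x fun q => by rw [hf q]; rfl

theorem two_le {T : Subgroup G} (hT : IsPGroup 2 T) (hQ : o2 P ≤ T) :
    T ≤ normalizer (zl (S : Subgroup G) P : Set G) := by
  set L := normalizer (zl (S : Subgroup G) P : Set G) with hL
  have hQL : o2 P ≤ L := (NO3S.OneLine.o2_le S h.star.toIsPar).trans
    (h.star.isLoc.le.trans (MinSimple.VModule.le_normalizer_zl _ _))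
  by_contra hcon
  have : Fact (Nat.Prime 2) := ⟨Nat.prime_two⟩
  have hlt : T ⊓ L < T := lt_of_le_of_ne inf_le_left fun e => hcon (inf_eq_left.1 e)
  refine (SporRec.MaxFix.lt_inf_normalizer hT hlt).not_ge ?_
  rintro t ⟨htT, ht⟩
  refine ⟨htT, h.lemN ?_⟩
  have h2 : cj t (T ⊓ L) = T ⊓ L := cj_eq_of_mem_normalizer ht
  have h3 : o2 P ≤ cj t (T ⊓ L) := by rw [h2]; exact le_inf hQ hQL
  refine h3.trans ((cj_mono t inf_le_right).trans ?_)
  rw [hL, cj_normalizer]

/-- `N_G(V)` controls fusion in `V`. -/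
theorem ctl {v g : G} (hv : v ∈ zl (S : Subgroup G) P) (hg : g * v * g⁻¹ ∈ zl (S : Subgroup G) P) :
    ∃ k ∈ normalizer (zl (S : Subgroup G) P : Set G), k * v * k⁻¹ = g * v * g⁻¹ := by
  set w := g * v * g⁻¹ with hw
  have hQc : o2 P ≤ centralizer (zl (S : Subgroup G) P : Set G) := fun q hq =>
    mem_centralizer_iff.2 fun x hx => (h.VcQ hq hx).symm
  have hQ1 : o2 P ≤ centralizer ({w} : Set G) := hQc.trans (centralizer_le (Set.singleton_subset_iff.2 hg))
  have hQ2 : cj g (o2 P) ≤ centralizer ({w} : Set G) := by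
    have h1 := cj_mono g hQc
    rw [cj_centralizer] at h1
    exact h1.trans (centralizer_le (Set.singleton_subset_iff.2 ⟨v, hv, rfl⟩))
  obtain ⟨T₁, hT₁, hQT₁⟩ := exists_syl (ChoiceSit.isPGroup_o2 P) hQ1
  obtain ⟨T₂, hT₂, hQT₂⟩ := exists_syl (isPGroup_cj g (ChoiceSit.isPGroup_o2 P)) hQ2
  obtain ⟨d, hd, hdT⟩ := syl_conj hT₁ hT₂
  have h1 := h.two_le hT₁.2.1 hQT₁
  have h2 : o2 P ≤ normalizer ((cj (g⁻¹ * d) (zl (S : Subgroup G) P) : Subgroup G) : Set G) := by
    have h3 : cj g (o2 P) ≤ cj d (normalizer (zl (S : Subgroup G) P : Set G)) :=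
      hQT₂.trans (hdT ▸ cj_mono d h1)
    rw [← cj_normalizer, ← cj_cj]
    exact cj_le_iff.1 h3
  have h4 := h.lemN h2
  refine ⟨d⁻¹ * g, by have := inv_mem h4; rwa [mul_inv_rev, inv_inv] at this, ?_⟩
  have h5 : d * w = w * d := mem_centralizer_singleton_iff.1 hd
  calc d⁻¹ * g * v * (d⁻¹ * g)⁻¹ = d⁻¹ * (g * v * g⁻¹) * d := by group
    _ = d⁻¹ * (w * d) := by rw [← hw]; group
    _ = w := by rw [← h5]; group

/-- **The frame.** -/
theorem fr : Fr S P m ε :=
  { h.toHyp with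
    oz := h.oz
    lemN := fun _ _ hg => h.lemN hg
    ctl := fun _ hv _ hg => h.ctl hv hg }

end LHyp

end Cfsg.Agent.Omega.NO3S.SNL

end

-- merged: Cfsg.Agent.Mrg.Omega.NO3S.SNL.OfL
section

/-!
# SN.Two / SymBigL: the frame holds at every stage

* `swap_of_tv` : an element which acts on `V` as a transvection acts as a transposition;
* `exists_exL` : exact best offenders at a level;
* `wc_line` : `Q ≤ N_G(V^g)` implies `V^g ≤ Ω₁(Z(K))`, `K ≤ Q` a level;
* `lhyp` : `LHyp` at a level; `frJ` : the frame at stage `-1`; **`frL`** : the frame for `HypL`.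
-/

set_option autoImplicit false
set_option linter.unusedSectionVars false

namespace Cfsg.Agent.Omega.NO3S.SNL

open Subgroup Cfsg Cfsg.Agent.PLocal.ThompsonJ Cfsg.Agent.ZN Cfsg.Agent.ZN.ChoiceBase
open Cfsg.Agent.PLocal.ElemAbSup
open Cfsg.Agent.Omega.MinPar Cfsg.Agent.Omega.Frame Cfsg.Agent.Omega.FrameNOFF
open Cfsg.Agent.Omega.S5.Def Cfsg.Agent.Omega.S5.Syl Cfsg.Agent.Omega.S5.Pair
open Cfsg.Agent.Omega.NSix.Base Cfsg.Agent.Omega.NSix.Basic
open Cfsg.Agent.Omega.NO3S.SN (pt Cn Qn U mem_Cn mem_Cn' Base)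
open Cfsg.Agent.ZN.ChoiceSit (Syl exists_syl syl_conj)
open Cfsg.Agent.Omega.NO1.BestOff (Best)
open Cfsg.Agent.Omega.NO3S.Level (Lev BO nxt lev lev_isLev)
open Cfsg.Agent.Omega.FFThm (SymKM SymK)
open Cfsg.Agent.Omega.FrameFF (cv)
open scoped Pointwise commutatorElement

universe u

/-- **Transvections on the even-subset module are transpositions.** -/
theorem swap_of_tv {G : Type u} [Group G] [Finite G] {n : ℕ} {V L : Subgroup G} {ε : (Fin n → ZMod 2) → G}
    (h : EvenSet n V L ε) (hn : 5 ≤ n) {a : G} {σ : Equiv.Perm (Fin n)} (hσ : Acts ε a σ) {d : G}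
    (hd : ∀ v ∈ V, a * v * a⁻¹ = v ∨ a * v * a⁻¹ = v * d) {i : Fin n} (hi : σ i ≠ i) :
    σ = Equiv.swap i (σ i) ∧ d = rr ε i (σ i) := by
  have key : ∀ k, σ k ≠ k → d = rr ε k (σ k) := by
    intro k hk
    have h1 := zz_conj hσ k
    rcases hd _ (zz_mem h k) with h2 | h2
    · exfalso
      have h3 := (h.fixes_iff (by omega) hσ k).1 (mul_inv_eq_iff_eq_mul.1 h2)
      exact hk h3
    · rw [h1] at h2
      rw [rr, h2, ← mul_assoc, zz_sq h, one_mul]
  refine ⟨?_, key i hi⟩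
  have h1 : ∀ k, k ≠ i → k ≠ σ i → σ k = k := by
    intro k hki hkj
    by_contra hk
    refine NSix.CaseJ.Fus.rr_ne h hn (i := k) (j := σ k) (k := i) (l := σ i) (Ne.symm hk) hki.symm hkj.symm ?_
    rw [← key k hk, ← key i hi]
  have h2 : σ (σ i) = i := by
    by_contra hne
    have h3 : σ (σ i) ≠ σ i := fun e => hi (σ.injective e)
    exact hi (σ.injective (σ.injective (h1 _ hne h3)))
  refine Equiv.ext fun k => ?_
  by_cases hki : k = i
  · rw [hki, Equiv.swap_apply_left]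
  · by_cases hkj : k = σ i
    · rw [hkj, Equiv.swap_apply_right, h2]
    · rw [Equiv.swap_apply_of_ne_of_ne hki hkj, h1 k hki hkj]

variable {G : Type u} [Group G] [Finite G] {S : Sylow 2 G} {P : Subgroup G} {m : ℕ}

/-- **Exact best offenders at a level.** -/
theorem exists_exL {ε : (Fin (2 ^ m + 1) → ZMod 2) → G} (h : SN.Hyp S P m ε) {K : Subgroup G}
    (hL : Lev (S : Subgroup G) K) (hK : K ≤ o2 P) (hJ : ∃ A ∈ BO (S : Subgroup G) K, ¬ A ≤ o2 P)
    (N : SymKM (S : Subgroup G) P (zl (S : Subgroup G) P) (cv (S : Subgroup G) P) 1 m)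
    {i j : Fin (2 ^ m + 1)} (hij : i ≠ j) : ∃ A, ExL P (zc K) ε i j A := by
  have hcen := NoFF.LinesPlug.inf_eq_bot S h.nonLoc
  obtain ⟨ι, hι, W, d, t, r, Lb, A, hs, -, -, hAn, -, hF⟩ := OM.Lev.Sym.exists_sym_lev FF.Glob.ffthmM h.ctx.char2
    h.star hL hK hcen hJ one_pos (le_trans (by norm_num) h.m3) N
  obtain ⟨k⟩ := hs.ne
  have hn5 : 5 ≤ 2 ^ m + 1 := by have := h.nine_le; omega
  have hn3 : 3 ≤ 2 ^ m + 1 := by omega
  have hAS : A k ≤ (S : Subgroup G) := (hAn k).trans (NO3S.Level.nxt_le _ _)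
  have hAP : A k ≤ P := hAS.trans h.star.isLoc.le
  -- transvections
  have htv : ∀ a ∈ A k, ∀ v ∈ zl (S : Subgroup G) P, a * v * a⁻¹ = v ∨ a * v * a⁻¹ = v * d k := by
    intro a ha v hv
    obtain ⟨w, hw, c, hc, rfl⟩ := hF.WC k v hv
    have hac := hF.AC k a ha c hc
    have h1 : w⁻¹ * (a * w * a⁻¹) ∈ zpowers (d k) := by
      refine (hF.blk k).comm_le le_rfl ?_
      have h2 : ⁅w⁻¹, a⁆ ∈ ⁅W k, (S : Subgroup G) ⊓ centralizer (zc (nxt (S : Subgroup G) K) : Set G)⁆ :=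
        commutator_mem_commutator (inv_mem hw) (hF.AB k ha)
      rw [commutatorElement_def] at h2
      have e : w⁻¹ * a * w⁻¹⁻¹ * a⁻¹ = w⁻¹ * (a * w * a⁻¹) := by group
      rwa [e] at h2
    have hdV : d k ∈ zl (S : Subgroup G) P := hF.ZV k (mem_zpowers _)
    have hdd : d k * d k = 1 := h.ev.sq_mem hdV
    have hwV := hF.WV k hw
    have hcV := hF.CV k hc
    have e1 : a * (w * c) * a⁻¹ = w * (w⁻¹ * (a * w * a⁻¹)) * c := by
      calc a * (w * c) * a⁻¹ = a * w * (a⁻¹ * a) * c * a⁻¹ := by group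
        _ = (a * w * a⁻¹) * (a * c) * a⁻¹ := by group
        _ = (a * w * a⁻¹) * (c * a) * a⁻¹ := by rw [hac]
        _ = _ := by group
    rcases NSix.CaseJ.Exact.mem_zp hdd h1 with h3 | h3
    · left; rw [e1, h3, mul_one]
    · right
      rw [e1, h3, mul_assoc, h.ev.comm_mem hdV hcV, mul_assoc]
  have hperm : ∀ a ∈ A k, ∃ σ, Acts ε a σ := fun a ha => h.ev.perm a (hAP ha)
  obtain ⟨a, ha, haW⟩ : ∃ a ∈ A k, ¬ ∀ v ∈ W k, a * v = v * a := by
    by_contra hcon
    push Not at hcon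
    exact hF.Ane k hcon
  obtain ⟨σ, hσ⟩ := hperm a ha
  obtain ⟨p, hp⟩ : ∃ p, σ p ≠ p := by
    by_contra hcon
    push Not at hcon
    have e1 : σ = 1 := Equiv.ext hcon
    rw [e1] at hσ
    refine haW fun v hv => ?_
    exact (mem_centralizer_iff.1 (h.ev.acts_one_iff.1 hσ) v (hF.WV k hv)).symm
  obtain ⟨hσs, hd⟩ := swap_of_tv h.ev hn5 hσ (htv a ha) hp
  have hA : ExL P (zc K) ε p (σ p) (A k) :=
    { AP := hAP
      best := { hF.AX k with max := fun Y hY hYc => hF.best k Y hYc hY }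
      act := by
        intro b hb
        obtain ⟨τ, hτ⟩ := hperm b hb
        by_cases hb1 : ∀ q, τ q = q
        · left
          have e1 : τ = 1 := Equiv.ext hb1
          rwa [e1] at hτ
        · right
          push Not at hb1
          obtain ⟨q, hq⟩ := hb1
          obtain ⟨h1, h2⟩ := swap_of_tv h.ev hn5 hτ (htv b hb) hq
          have h3 : q = p ∨ q = σ p := by
            by_contra hcon
            push Not at hcon
            refine NSix.CaseJ.Fus.rr_ne h.ev hn5 (i := q) (j := τ q) (k := p) (l := σ p) hq.symm hcon.1.symm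
              hcon.2.symm ?_
            rw [← h2, ← hd]
          have h4 : τ q = p ∨ τ q = σ p := by
            by_contra hcon
            push Not at hcon
            refine NSix.CaseJ.Fus.rr_ne h.ev hn5 (i := τ q) (j := q) (k := p) (l := σ p) hq hcon.1.symm
              hcon.2.symm ?_
            rw [rr_symm h.ev, ← h2, ← hd]
          have h5 : τ = Equiv.swap p (σ p) := by
            rw [h1]
            rcases h3 with h3 | h3 <;> rcases h4 with h4 | h4
            · exact absurd (h4.trans h3.symm) hq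
            · rw [h3] at h4 ⊢
              rw [h4]
            · rw [h3] at h4 ⊢
              rw [h4, Equiv.swap_comm]
            · exact absurd (h4.trans h3.symm) hq
          rwa [h5] at hτ
      ex := ⟨a, ha, by rwa [← hσs]⟩
      cV := fun b hb hb1 => by
        rw [← IsParS.inf_centralizer S h.ctx.char2 h.star]
        exact ⟨hAS hb, h.ev.acts_one_iff.1 hb1⟩ }
  obtain ⟨τ, h1, h2, -⟩ := exists_perm hp.symm hij
  obtain ⟨g, hg, hgτ⟩ := h.ev.full τ
  have hX : P ≤ normalizer ((zc K : Subgroup G) : Set G) :=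
    (hL.le_norm_of_o2 hK (NO3S.OneLine.o2_le S h.star.toIsPar)).trans (NO3S.Level.normalizer_le_zc K)
  have h3 := hA.conj hg (hX hg) hgτ
  rw [h1, h2] at h3
  exact ⟨_, h3⟩

/-- `Q ≤ N_G(V^g)` implies `V^g ≤ Ω₁(Z(K))`. -/
theorem wc_line {ε : (Fin (2 ^ m + 1) → ZMod 2) → G} (h : SN.Hyp S P m ε) {K : Subgroup G}
    (hL : Lev (S : Subgroup G) K) (hK : K ≤ o2 P) {g : G}
    (hg : o2 P ≤ normalizer ((cj g (zl (S : Subgroup G) P) : Subgroup G) : Set G)) :
    cj g (zl (S : Subgroup G) P) ≤ zc K := by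
  have hQS := NO3S.OneLine.o2_le S h.star.toIsPar
  have hVX : zl (S : Subgroup G) P ≤ zc K := (h.star.isLoc.zl_le S h.ctx.char2).trans (hL.zc_o2_le hK hQS)
  have hSV : (S : Subgroup G) ≤ normalizer (zl (S : Subgroup G) P : Set G) :=
    h.star.isLoc.le.trans (MinSimple.VModule.le_normalizer_zl _ _)
  have hsyl : Syl (cj g (S : Subgroup G)) (normalizer ((cj g (zl (S : Subgroup G) P) : Subgroup G) : Set G)) := by
    refine ⟨?_, isPGroup_cj g S.isPGroup', fun R _ hR hSR => ?_⟩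
    · rw [← cj_normalizer]; exact cj_mono g hSV
    · have h1 : (S : Subgroup G) ≤ cj g⁻¹ R := by
        have := cj_mono g⁻¹ hSR
        rwa [cj_inv_cj] at this
      have h2 := S.is_maximal' (isPGroup_cj g⁻¹ hR) h1
      rw [← h2, cj_cj_inv]
  obtain ⟨T, hT, hQT⟩ := exists_syl (ChoiceSit.isPGroup_o2 P) hg
  obtain ⟨n, hn, hnT⟩ := syl_conj hsyl hT
  rw [cj_cj] at hnT
  have hKT : K ≤ cj (n * g) (S : Subgroup G) := (hK.trans hQT).trans hnT.ge
  have hwc := OM.Lev.Wc.wc_Lev hL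
  have h1 : cj (n * g)⁻¹ K = K := hwc.eq _ (by
    have := cj_mono (n * g)⁻¹ hKT
    rwa [cj_inv_cj] at this)
  have h2 : cj (n * g) K = K := by
    conv_rhs => rw [← cj_cj_inv (n * g) K, h1]
  have h3 : cj (n * g) (zl (S : Subgroup G) P) ≤ zc K := by
    have h4 := cj_mono (n * g) hVX
    rw [← NO3S.Level.zc_cj, h2] at h4
    exact h4
  rw [← cj_cj, cj_eq_of_mem_normalizer hn] at h3
  exact h3

/-- **The hypotheses at a level.** -/
theorem lhyp {ε : (Fin (2 ^ m + 1) → ZMod 2) → G} (h : SN.Hyp S P m ε) {K : Subgroup G}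
    (hL : Lev (S : Subgroup G) K) (hK : K ≤ o2 P) (hJ : ∃ A ∈ BO (S : Subgroup G) K, ¬ A ≤ o2 P)
    (N : SymKM (S : Subgroup G) P (zl (S : Subgroup G) P) (cv (S : Subgroup G) P) 1 m) :
    LHyp S P m ε (zc K) := by
  have hQS := NO3S.OneLine.o2_le S h.star.toIsPar
  have hcen := NoFF.LinesPlug.inf_eq_bot S h.nonLoc
  have hoz := (NO3S.OneLine.lev_eq FF.Glob.ffthmM h.ctx.char2 h.star hL hK hcen hJ).1
  exact
    { h with
      elX := NO3S.OneLine.zc_elem K
      VX := (h.star.isLoc.zl_le S h.ctx.char2).trans (hL.zc_o2_le hK hQS)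
      XQ := (ChoiceSit.zc_le K).trans hK
      XP := (hL.le_norm_of_o2 hK hQS).trans (NO3S.Level.normalizer_le_zc K)
      oz := fun u hu hu2 hc => by
        rw [← hoz]
        exact ChoiceBase.mem_zc.2 ⟨hu, by rw [pow_two]; exact hu2, hc⟩
      exA := fun i j hij => exists_exL h hL hK hJ N hij
      wc := fun g hg => wc_line h hL hK hg }

/-- **The frame at stage `-1`.** -/
theorem frJ {ε : (Fin (2 ^ m + 1) → ZMod 2) → G} (h : SN.Hyp S P m ε) (hJ : NSix.CaseJ.Base.Hyp S P ε) :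
    Fr S P m ε :=
  { h with
    oz := fun _ hu hu2 hc => NSix.CaseJ.LemQ.oz hJ hu hu2 hc
    lemN := fun _ hg hQ => SN.J.N2.mem_of_Q_le hJ h hg hQ
    ctl := fun _ hv _ hg => NSix.CaseJ.Fus.control hJ h.m3 hv hg }

/-- **The frame holds at every stage.** -/
theorem frL (h : HypL S P) (hm : 3 ≤ m)
    (N : SymKM (S : Subgroup G) P (zl (S : Subgroup G) P) (cv (S : Subgroup G) P) 1 m) :
    ∃ ε, Fr S P m ε := by
  have h1 : 1 ≤ m := le_trans (by norm_num) hm
  have hD : cv (S : Subgroup G) P = ⊥ :=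
    NoFF.LinesPlug.inf_oddGen_eq_bot h.ctx.char2 S h.star.toIsPar (NoFF.LinesPlug.inf_eq_bot S h.nonLoc)
  have hH := MinSimple.VModule.le_normalizer_zl (S : Subgroup G) P
  have hN : SN.Hyp S P m (S5.Of.lab N.toSymK h1) :=
    ⟨h.ctx, h.star, h.nonLoc, hm, S5.Of.evenSet N.toSymK hD h1 hH, S5.Of.fix0 N.toSymK hD h1 hH h.star.isLoc.le⟩
  refine ⟨S5.Of.lab N.toSymK h1, ?_⟩
  rcases h.stage with hj | ⟨n, hn, hn1⟩
  · refine frJ hN ⟨h.ctx.char2, h.star, le_trans (by norm_num) hm, hN.ev, hN.fix0, fun A hA hoff a ha => ?_, hj⟩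
    exact S5.Of.off N.toSymK hD h1 hH h.star.isLoc.le hA hoff ha
  · exact (lhyp hN (lev_isLev _ n) (hn P h.star) (exists_BO h.ctx.char2 h.star (hn P h.star) hn1) N).fr

end Cfsg.Agent.Omega.NO3S.SNL

end
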